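import Cfsg.Agent.H954.LD.Row
import Cfsg.Agent.H417.DegMTwelve
import Cfsg.Agent.H548.Crit
import Cfsg.Agent.S2061

/-!
# S4910, row M12 (helper396)

The numerical data `MTwelve.DegreeEleven.Ctx` of the 11-blocks and 5-blocks of `M12`: the degree 45 is unique, and
one of the degrees 11, 44, 176 occurs an odd number of times, so there is an invariant character of such a degree.
-/

set_option autoImplicit false
set_option linter.unusedSectionVars false

namespace Cfsg.Agent.H396.LD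

open Cfsg Cfsg.Agent.H954.LD
open Cfsg.Agent.MTwelve.DegreeEleven

universe u

section count

variable {I : Type u} [Fintype I] [DecidableEq I] (C : Ctx I)

/-- the number of the characters of degree `d` -/
def cnt (d : ℕ) : ℤ := ∑ i, if C.deg i = d then (1 : ℤ) else 0

theorem cnt_eq (d : ℕ) : cnt C d = ((Finset.univ.filter fun i => C.deg i = d).card : ℤ) := by
  unfold cnt
  rw [Finset.sum_boole]

/-- The count from the inequality for all functions. -/
theorem cnt_of {T : (I → ℤ) → ℤ} (hT : ∀ g : I → ℤ, (∀ i, 55 ∣ C.deg i → 0 ≤ g i) → T g ≤ ∑ i, g i)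
    (hneg : ∀ g, T (fun i => -g i) = -T g) {d : ℕ} (hd : ¬ 55 ∣ d) :
    cnt C d = T (fun i => if C.deg i = d then (1 : ℤ) else 0) := by
  have h0 : ∀ i, 55 ∣ C.deg i → (if C.deg i = d then (1 : ℤ) else 0) = 0 := by
    intro i hi
    rw [if_neg]
    intro h
    exact hd (h ▸ hi)
  apply le_antisymm
  · have h1 := hT (fun i => -(if C.deg i = d then (1 : ℤ) else 0)) (fun i hi => by rw [h0 i hi]; norm_num)
    rw [hneg, Finset.sum_neg_distrib] at h1
    exact neg_le_neg_iff.1 h1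
  · exact hT _ (fun i hi => by rw [h0 i hi])

/-- One of the degrees 11, 44, 176 occurs an odd number of times. -/
theorem exists_odd : ∃ d, (d = 11 ∨ d = 44 ∨ d = 176) ∧ Odd (cnt C d) := by
  obtain ⟨i11, hi11, -⟩ := C.exists_real
  have hpos : 0 < cnt C 11 := by
    rw [cnt_eq]
    exact_mod_cast Finset.card_pos.2 ⟨i11, by simp [hi11]⟩
  rcases C.cases with ⟨h0, h1, h2, h3⟩ | ⟨h0, h1, h2, h3⟩ | ⟨h0, h1, h2, h3⟩ |
    ⟨h0, h1, h2, h3⟩ | ⟨h0, h1, h2, h3⟩
  · have h01 : C.c 1 ≠ C.c 2 := fun h => absurd (C.c_inj h) (by decide)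
    have hth : C.th ∈ C.S ∧ C.th' ∈ C.S := by
      rcases C.eq_th h1 with a0 | a0 <;> rcases C.eq_th h2 with a1 | a1
      · exact absurd (a0.trans a1.symm) h01
      · exact ⟨C.mem_S.2 (Or.inr ⟨1, a0⟩), C.mem_S.2 (Or.inr ⟨2, a1⟩)⟩
      · exact ⟨C.mem_S.2 (Or.inr ⟨2, a1⟩), C.mem_S.2 (Or.inr ⟨1, a0⟩)⟩
      · exact absurd (a0.trans a1.symm) h01
    obtain ⟨r, hrinj, hcases, hrv, hrw, hrs, hsum⟩ := C.caseB hth.1 hth.2 (by
      intro j
      fin_cases j <;> simp only [Fin.zero_eta, Fin.mk_one, Fin.reduceFinMk] <;> omega)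
    have key := fun (d : ℕ) (hd : ¬ 55 ∣ d) => cnt_of C hsum (fun g => by simp only [Fin.sum_univ_four]; ring) hd
    rcases hcases with ⟨a0, a1, a2⟩ | ⟨a0, a1, a2⟩ | ⟨a0, a1, a2⟩
    · refine ⟨44, by omega, ?_⟩
      rw [key 44 (by omega), Fin.sum_univ_four]
      beta_reduce
      rw [h0, h1, h2, h3, C.deg_o, C.d45, C.d54, C.d120, C.d144, a0, a1, a2]
      decide
    · refine ⟨176, by omega, ?_⟩
      rw [key 176 (by omega), Fin.sum_univ_four]
      beta_reduce
      rw [h0, h1, h2, h3, C.deg_o, C.d45, C.d54, C.d120, C.d144, a0, a1, a2]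
      decide
    · refine ⟨44, by omega, ?_⟩
      rw [key 44 (by omega), Fin.sum_univ_four]
      beta_reduce
      rw [h0, h1, h2, h3, C.deg_o, C.d45, C.d54, C.d120, C.d144, a0, a1, a2]
      decide
  · obtain ⟨a, b, hab, hcases, hsum⟩ := C.caseA (C.mem_S.2 (Or.inr ⟨2, C.eq_c144 h2⟩)) (by
      intro j
      fin_cases j <;> simp only [Fin.zero_eta, Fin.mk_one, Fin.reduceFinMk] <;> omega)
    have key := fun (d : ℕ) (hd : ¬ 55 ∣ d) => cnt_of C hsum (fun g => by simp only [Fin.sum_univ_four]; ring) hd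
    rcases hcases with ⟨a0, a1⟩ | ⟨a0, a1⟩
    · refine ⟨44, by omega, ?_⟩
      rw [key 44 (by omega), Fin.sum_univ_four]
      beta_reduce
      rw [h0, h1, h2, h3, C.deg_o, C.d45, C.d54, C.d120, C.dth, C.dth', a0, a1]
      decide
    · refine ⟨11, by omega, ?_⟩
      rw [key 11 (by omega), Fin.sum_univ_four]
      beta_reduce
      rw [h0, h1, h2, h3, C.deg_o, C.d45, C.d54, C.d120, C.dth, C.dth', a0, a1]
      decide
  · obtain ⟨a, b, hab, hcases, hsum⟩ := C.caseA (C.mem_S.2 (Or.inr ⟨3, C.eq_c144 h3⟩)) (by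
      intro j
      fin_cases j <;> simp only [Fin.zero_eta, Fin.mk_one, Fin.reduceFinMk] <;> omega)
    have key := fun (d : ℕ) (hd : ¬ 55 ∣ d) => cnt_of C hsum (fun g => by simp only [Fin.sum_univ_four]; ring) hd
    refine ⟨11, by omega, ?_⟩
    rcases hcases with ⟨a0, a1⟩ | ⟨a0, a1⟩ <;>
    · rw [key 11 (by omega), Fin.sum_univ_four]
      beta_reduce
      rw [h0, h1, h2, h3, C.deg_o, C.d45, C.d54, C.d120, C.dth, C.dth', a0, a1]
      decide
  · have h01 : C.c 0 ≠ C.c 1 := fun h => absurd (C.c_inj h) (by decide)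
    have hth : C.th ∈ C.S ∧ C.th' ∈ C.S := by
      rcases C.eq_th h0 with a0 | a0 <;> rcases C.eq_th h1 with a1 | a1
      · exact absurd (a0.trans a1.symm) h01
      · exact ⟨C.mem_S.2 (Or.inr ⟨0, a0⟩), C.mem_S.2 (Or.inr ⟨1, a1⟩)⟩
      · exact ⟨C.mem_S.2 (Or.inr ⟨1, a1⟩), C.mem_S.2 (Or.inr ⟨0, a0⟩)⟩
      · exact absurd (a0.trans a1.symm) h01
    obtain ⟨r, hrinj, hcases, hrv, hrw, hrs, hsum⟩ := C.caseB hth.1 hth.2 (by
      intro j
      fin_cases j <;> simp only [Fin.zero_eta, Fin.mk_one, Fin.reduceFinMk] <;> omega)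
    have key := fun (d : ℕ) (hd : ¬ 55 ∣ d) => cnt_of C hsum (fun g => by simp only [Fin.sum_univ_four]; ring) hd
    rcases hcases with ⟨a0, a1, a2⟩ | ⟨a0, a1, a2⟩ | ⟨a0, a1, a2⟩
    · refine ⟨176, by omega, ?_⟩
      rw [key 176 (by omega), Fin.sum_univ_four]
      beta_reduce
      rw [h0, h1, h2, h3, C.deg_o, C.d45, C.d54, C.d120, C.d144, a0, a1, a2]
      decide
    · refine ⟨176, by omega, ?_⟩
      rw [key 176 (by omega), Fin.sum_univ_four]
      beta_reduce
      rw [h0, h1, h2, h3, C.deg_o, C.d45, C.d54, C.d120, C.d144, a0, a1, a2]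
      decide
    · exfalso
      rw [key 11 (by omega), Fin.sum_univ_four] at hpos
      beta_reduce at hpos
      rw [h0, h1, h2, h3, C.deg_o, C.d45, C.d54, C.d120, C.d144, a0, a1, a2] at hpos
      revert hpos
      decide
  · obtain ⟨a, b, hab, hcases, hsum⟩ := C.caseA (C.mem_S.2 (Or.inr ⟨2, C.eq_c144 h2⟩)) (by
      intro j
      fin_cases j <;> simp only [Fin.zero_eta, Fin.mk_one, Fin.reduceFinMk] <;> omega)
    have key := fun (d : ℕ) (hd : ¬ 55 ∣ d) => cnt_of C hsum (fun g => by simp only [Fin.sum_univ_four]; ring) hd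
    refine ⟨176, by omega, ?_⟩
    rcases hcases with ⟨a0, a1⟩ | ⟨a0, a1⟩ <;>
    · rw [key 176 (by omega), Fin.sum_univ_four]
      beta_reduce
      rw [h0, h1, h2, h3, C.deg_o, C.d45, C.d54, C.d120, C.dth, C.dth', a0, a1]
      decide

theorem unique_45 {i : I} (h : C.deg i = 45) : i = C.c45 := by
  rcases C.rest i with h1 | h1 | h1 | h1 | h1 | h1 | h1 | h1
  · rw [h1, C.deg_o] at h; omega
  · exact h1
  · rw [h1, C.d54] at h; omega
  · rw [h1, C.d120] at h; omega
  · rw [h1, C.d144] at h; omega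
  · rw [h1, C.dth] at h; omega
  · rw [h1, C.dth'] at h; omega
  · omega

end count

/-- **Row M12.** -/
theorem row_M12 {S : Type u} [Group S] [Finite S] [IsSimpleGroup S] (hna : ¬ IsMulCommutative S)
    (h : Spor.IsoM12 S) : CopRow S := by
  classical
  obtain ⟨e⟩ := h
  have hc : Nat.card S = 95040 := by
    rw [Nat.card_congr e.toEquiv]
    exact Cfsg.Agent.CoThreeStd.MTwelve.card_H
  have h2 : Nat.card (Out S) ≤ 2 := by
    rw [H548.Crit.card_out_congr e, Cfsg.Agent.S2061.result]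
  have := Fintype.ofFinite S
  have := Cfsg.Agent.Characters.Core.finite_irr (G := S)
  have := Fintype.ofFinite (IrrCharacter S)
  obtain ⟨C, t, hdeg, -⟩ := H417.DegMTwelve.exists_ctx hc
    (fun P => Cfsg.Agent.MTwelve.SylowEleven.centralizer_sylow11 hc P)
    (fun P => Cfsg.Agent.MTwelve.SylowEleven.card_normalizer_sylow11 hc P)
  have hcd : ∀ ψ : IrrCharacter S, charDegree (ψ : S → ℂ) = C.deg ψ := fun ψ => by
    rw [hdeg]
    exact Cfsg.Agent.MTwelve.ElevenMain.charDegree_eq_deg ψ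
  obtain ⟨d, hd, hodd⟩ := exists_odd C
  rw [cnt_eq] at hodd
  obtain ⟨β, hβ, hβi⟩ := exists_inv_of_odd h2 (Finset.univ.filter fun i => C.deg i = d) (by exact_mod_cast hodd)
    (fun b θ hθ => by
      rw [Finset.mem_filter] at hθ ⊢
      refine ⟨Finset.mem_univ _, ?_⟩
      rw [← hcd, charDegree_tw, hcd]
      exact hθ.2)
  have hβd : charDegree (β : S → ℂ) = d := by
    rw [hcd]
    exact (Finset.mem_filter.1 hβ).2
  have hα : charDegree (C.c45 : S → ℂ) = 45 := by rw [hcd, C.d45]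
  refine copRow_inv hna h2 (α := C.c45) (β := β) (by rw [hα]; norm_num) ?_ ?_ ?_ hβi
  · rw [hβd]
    omega
  · rw [hα, hβd]
    rcases hd with rfl | rfl | rfl <;> decide
  · refine inv_of_unique fun ψ hψ => unique_45 C ?_
    rw [← hcd, hψ, hα]

end Cfsg.Agent.H396.LD
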